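import Cfsg.Agent.H308.CA.TGrp
import Mathlib.Combinatorics.Colex

/-!
# S3852, CA18: the stabiliser of the `2`-adic decomposition has odd index (helper55)

* `sum_rk`, `rk_one`, `rk_add`, `rk_zero`, `rk_eq_zero` : ranks of symmetric idempotents;
* `card_eq_sum` : `|ι| = ∑ 2 ^ a`;
* `rkNe` : [CA15](b); `index_odd` : the index of `Y` is odd.
-/

set_option autoImplicit false
set_option linter.unusedSectionVars false
set_option linter.unusedVariables false

namespace Cfsg.Agent.H55.CA

open Matrix Cfsg.Agent.H308.CA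

section

variable {ι κ : Type} [Fintype ι] [DecidableEq ι] [Fintype κ] [DecidableEq κ] {E : Type} [CommRing E] [StarRing E]

/-- the ranks of a complete family add up to `|ι|` -/
theorem sum_rk (h : Gd E) {e : κ → Matrix ι ι E} (he : ∀ i, IsP (e i)) (ho : ∀ i j, i ≠ j → e i * e j = 0)
    (hs : ∑ i, e i = 1) : ∑ i, rk (e i) = Fintype.card ι := by
  obtain ⟨u, c, hc⟩ := H248.CA.onSt h ι κ e he ho hs
  have h1 : ∀ i, rk (e i) = Fintype.card {x // c x = i} := fun i => by rw [hc i, H248.CA.rk_conj h]
  rw [Finset.sum_congr rfl fun i _ => h1 i, ← Fintype.card_sigma]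
  exact Fintype.card_congr (Equiv.sigmaFiberEquiv c)

theorem isP_one_sub {e : Matrix ι ι E} (he : IsP e) : IsP (1 - e) :=
  ⟨by rw [sub_mul, mul_sub, mul_sub, mul_one, one_mul, mul_one, he.idem, sub_self, sub_zero],
    by rw [star_sub, star_one, he.sym]⟩

theorem isP_add {e f : Matrix ι ι E} (he : IsP e) (hf : IsP f) (hef : e * f = 0) : IsP (e + f) := by
  have hfe : f * e = 0 := by
    have := congrArg star hef
    rwa [star_mul, he.sym, hf.sym, star_zero] at this
  exact ⟨by rw [add_mul, mul_add, mul_add, he.idem, hf.idem, hef, hfe, add_zero, zero_add],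
    by rw [star_add, he.sym, hf.sym]⟩

theorem rk_one (h : Gd E) : rk (1 : Matrix ι ι E) = Fintype.card ι := by
  have h1 := sum_rk (κ := Unit) (ι := ι) h (e := fun _ => 1) (fun _ => ⟨one_mul 1, star_one _⟩)
    (fun i j hij => absurd (Subsingleton.elim i j) hij) (by simp)
  simpa using h1

theorem rk_zero (h : Gd E) : rk (0 : Matrix ι ι E) = 0 := by
  have h1 := sum_rk (κ := Bool) (ι := ι) h (e := fun b => if b then 1 else 0) (fun b => by
      cases b
      · exact ⟨mul_zero _, star_zero _⟩
      · exact ⟨one_mul 1, star_one _⟩)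
    (fun i j hij => by
      cases i <;> cases j <;> simp at hij ⊢) (by simp)
  simp only [Fintype.sum_bool, if_true, Bool.false_eq_true, if_false, rk_one h] at h1
  omega

theorem rk_sub (h : Gd E) {e : Matrix ι ι E} (he : IsP e) : rk e + rk (1 - e) = Fintype.card ι := by
  have h1 := sum_rk (κ := Bool) (ι := ι) h (e := fun b => if b then e else 1 - e) (fun b => by
      cases b
      · exact isP_one_sub he
      · exact he)
    (fun i j hij => by
      cases i <;> cases j
      · exact absurd rfl hij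
      · show (1 - e) * e = 0
        rw [sub_mul, one_mul, he.idem, sub_self]
      · show e * (1 - e) = 0
        rw [mul_sub, mul_one, he.idem, sub_self]
      · exact absurd rfl hij) (by simp)
  simpa using h1

theorem rk_add (h : Gd E) {e f : Matrix ι ι E} (he : IsP e) (hf : IsP f) (hef : e * f = 0) :
    rk (e + f) = rk e + rk f := by
  have hfe : f * e = 0 := by
    have := congrArg star hef
    rwa [star_mul, he.sym, hf.sym, star_zero] at this
  have h1 := sum_rk (κ := Fin 3) (ι := ι) h (e := ![e, f, 1 - (e + f)]) (by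
      intro i
      fin_cases i
      · exact he
      · exact hf
      · exact isP_one_sub (isP_add he hf hef)) (by
      intro i j hij
      fin_cases i <;> fin_cases j <;> first | exact absurd rfl hij | skip
      · exact hef
      · show e * (1 - (e + f)) = 0
        rw [mul_sub, mul_one, mul_add, he.idem, hef, add_zero, sub_self]
      · exact hfe
      · show f * (1 - (e + f)) = 0
        rw [mul_sub, mul_one, mul_add, hf.idem, hfe, zero_add, sub_self]
      · show (1 - (e + f)) * e = 0
        rw [sub_mul, one_mul, add_mul, he.idem, hfe, add_zero, sub_self]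
      · show (1 - (e + f)) * f = 0
        rw [sub_mul, one_mul, add_mul, hf.idem, hef, zero_add, sub_self]) (by
      rw [Fin.sum_univ_three]
      show e + f + (1 - (e + f)) = 1
      abel)
  rw [Fin.sum_univ_three] at h1
  have h2 := rk_sub h (isP_add he hf hef)
  have h3 : rk e + rk f + rk (1 - (e + f)) = Fintype.card ι := h1
  omega

theorem rk_eq_zero (h : Gd E) {e : Matrix ι ι E} (he : IsP e) : rk e = 0 ↔ e = 0 := by
  constructor
  · intro h0
    obtain ⟨u, c, hc⟩ := H248.CA.onSt h ι Bool (fun b => if b then e else 1 - e) (fun b => by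
        cases b
        · exact isP_one_sub he
        · exact he)
      (fun i j hij => by
        cases i <;> cases j
        · exact absurd rfl hij
        · show (1 - e) * e = 0
          rw [sub_mul, one_mul, he.idem, sub_self]
        · show e * (1 - e) = 0
          rw [mul_sub, mul_one, he.idem, sub_self]
        · exact absurd rfl hij) (by simp)
    have h1 : e = star (H308.CA.mt u) * dg (fun x => c x = true) * H308.CA.mt u := hc true
    have h2 : Fintype.card {x // c x = true} = 0 := by
      rw [← H248.CA.rk_conj h u, ← h1, h0]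
    have h3 : (dg (fun x => c x = true) : Matrix ι ι E) = 0 := by
      have h4 := Fintype.card_eq_zero_iff.1 h2
      unfold dg
      rw [← Matrix.diagonal_zero]
      congr 1
      funext x
      rw [if_neg fun hx => h4.false ⟨x, hx⟩]
    rw [h1, h3, mul_zero, zero_mul]
  · rintro rfl
    exact rk_zero h

/-- `|ι|` is the sum of the ranks, for families indexed by a finite set -/
theorem card_eq_sum (h : Gd E) (s : Finset ℕ) (e : ℕ → Matrix ι ι E) (he : ∀ a ∈ s, IsP (e a))
    (ho : ∀ a ∈ s, ∀ b ∈ s, a ≠ b → e a * e b = 0) (hs : ∑ a ∈ s, e a = 1) (hr : ∀ a ∈ s, rk (e a) = 2 ^ a) :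
    Fintype.card ι = ∑ a ∈ s, 2 ^ a := by
  have h1 := sum_rk (κ := s) (ι := ι) h (e := fun a => e a) (fun a => he a a.2)
    (fun a b hab => ho a a.2 b b.2 fun hc => hab (Subtype.ext hc)) (by
      rw [← hs]
      exact Finset.sum_coe_sort s e)
  rw [← h1, ← Finset.sum_coe_sort s (fun a => 2 ^ a)]
  exact Finset.sum_congr rfl fun a _ => hr a a.2

/-- [CA15](b) as a statement -/
def RkNe (ι : Type) [Fintype ι] [DecidableEq ι] (E : Type) [CommRing E] [StarRing E] : Prop :=
  ∀ (S : Subgroup (SU ι E)), ¬ 2 ∣ S.index → ∀ (e f : Matrix ι ι E), IsP e → IsP f → e * f = 0 →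
    (∀ s ∈ S, mt s * e = e * mt s) → (∀ s ∈ S, mt s * f = f * mt s) → rk e = rk f → e = f

/-- **CA18** -/
theorem index_odd_of (h : Gd E) (h2 : IsUnit (2 : E)) (hTwo : TwoSt E) (hne : RkNe ι E) (s : Finset ℕ)
    (e : ℕ → Matrix ι ι E) (he : ∀ a ∈ s, IsP (e a)) (ho : ∀ a ∈ s, ∀ b ∈ s, a ≠ b → e a * e b = 0)
    (hs : ∑ a ∈ s, e a = 1) (hr : ∀ a ∈ s, rk (e a) = 2 ^ a) (Y : Subgroup (SU ι E))
    (hY : ∀ u : SU ι E, (∀ a ∈ s, mt u * e a = e a * mt u) → u ∈ Y) : ¬ 2 ∣ Y.index := by
  classical
  have hfin := h.finite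
  have : Finite (SU ι E) := Finite.of_injective mt mt_injective
  have fact2 : Fact (Nat.Prime 2) := ⟨Nat.prime_two⟩
  obtain ⟨S⟩ : Nonempty (Sylow 2 (SU ι E)) := inferInstance
  obtain ⟨m, f, hf1, hf2, hf3, hf4, hf5⟩ := hTwo h2 ι S S.isPGroup'
  choose b hb using hf5
  have hinj : Function.Injective b := by
    intro i j hij
    by_contra hne'
    have h3 := hne S S.not_dvd_index (f i) (f j) (hf1 i) (hf1 j) (hf2 i j hne') (hf4 i) (hf4 j)
      (by rw [hb, hb, hij])
    have h4 : f i = 0 := by
      have h5 := hf2 i j hne'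
      rwa [← h3, (hf1 i).idem] at h5
    have h5 := hb i
    rw [h4, rk_zero h] at h5
    exact (pow_pos (by norm_num : 0 < 2) (b i)).ne h5
  have himg : Finset.univ.image b = s := by
    have h3 : ∑ a ∈ Finset.univ.image b, 2 ^ a = ∑ a ∈ s, 2 ^ a := by
      rw [← card_eq_sum h s e he ho hs hr, Finset.sum_image fun i _ j _ hij => hinj hij,
        ← sum_rk h hf1 hf2 hf3]
      exact Finset.sum_congr rfl fun i _ => (hb i).symm
    exact Finset.geomSum_injective (le_refl 2) h3
  have hmem : ∀ i, b i ∈ s := fun i => by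
    rw [← himg]
    exact Finset.mem_image_of_mem b (Finset.mem_univ i)
  obtain ⟨g, hg⟩ := fam_st h ι (Fin m) f (fun i => e (b i)) hf1 hf2 hf3 (fun i => he _ (hmem i))
    (fun i j hij => ho _ (hmem i) _ (hmem j) fun hc => hij (hinj hc)) (by
      rw [← hs, ← himg, Finset.sum_image fun i _ j _ hij => hinj hij])
    (fun i => by rw [hb, hr _ (hmem i)])
  have hle : ((g • S : Sylow 2 (SU ι E)) : Subgroup (SU ι E)) ≤ Y := by
    intro u hu
    rw [Sylow.smul_def, Sylow.pointwise_smul_def, Subgroup.mem_pointwise_smul_iff_inv_smul_mem, ← map_inv,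
      MulAut.smul_def, MulAut.conj_apply, inv_inv] at hu
    apply hY
    intro a ha
    rw [← himg] at ha
    obtain ⟨i, -, rfl⟩ := Finset.mem_image.1 ha
    have h3 := hf4 i _ hu
    rw [map_mul, map_mul, mt_inv] at h3
    rw [← hg i]
    have hg1 := star_mt_mul g
    have hg2 := mt_mul_star g
    calc mt u * (mt g * f i * star (mt g))
        = (mt g * star (mt g)) * mt u * (mt g * f i * star (mt g)) := by rw [hg2, one_mul]
      _ = mt g * ((star (mt g) * mt u * mt g) * f i) * star (mt g) := by simp only [mul_assoc]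
      _ = mt g * (f i * (star (mt g) * mt u * mt g)) * star (mt g) := by rw [h3]
      _ = mt g * f i * star (mt g) * mt u * (mt g * star (mt g)) := by simp only [mul_assoc]
      _ = mt g * f i * star (mt g) * mt u := by rw [hg2, mul_one]
  intro hd
  exact (g • S : Sylow 2 (SU ι E)).not_dvd_index (hd.trans (Subgroup.index_dvd_of_le hle))

/-- conjugation by a unitary element -/
def cu (u : SU ι E) (a : Matrix ι ι E) : Matrix ι ι E := H308.CA.mt u * a * star (H308.CA.mt u)

theorem cu_mul (u v : SU ι E) (a : Matrix ι ι E) : cu (u * v) a = cu u (cu v a) := by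
  unfold cu
  rw [map_mul, star_mul]
  simp only [mul_assoc]

theorem cu_one (a : Matrix ι ι E) : cu 1 a = a := by
  unfold cu
  rw [map_one, star_one, one_mul, mul_one]

theorem cu_inv (u : SU ι E) (a : Matrix ι ι E) : cu u⁻¹ (cu u a) = a := by
  rw [← cu_mul, inv_mul_cancel, cu_one]

theorem cu_inv_eq {u : SU ι E} {a b : Matrix ι ι E} (h : cu u a = b) : cu u⁻¹ b = a := by
  rw [← h, cu_inv]

theorem cu_eq_of_comm {u : SU ι E} {a : Matrix ι ι E} (h : H308.CA.mt u * a = a * H308.CA.mt u) : cu u a = a := by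
  unfold cu
  rw [h, mul_assoc, mt_mul_star, mul_one]

/-- the stabiliser of `(e, f)` -/
def stX (e f : Matrix ι ι E) : Subgroup (SU ι E) where
  carrier := {u | cu u e = e ∧ cu u f = f}
  one_mem' := ⟨cu_one e, cu_one f⟩
  mul_mem' := fun {u v} hu hv => ⟨by rw [cu_mul, hv.1, hu.1], by rw [cu_mul, hv.2, hu.2]⟩
  inv_mem' := fun {u} hu => ⟨cu_inv_eq hu.1, cu_inv_eq hu.2⟩

/-- the stabiliser of `{e, f}` -/
def stY (e f : Matrix ι ι E) : Subgroup (SU ι E) where
  carrier := {u | (cu u e = e ∧ cu u f = f) ∨ (cu u e = f ∧ cu u f = e)}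
  one_mem' := Or.inl ⟨cu_one e, cu_one f⟩
  mul_mem' := by
    rintro u v (hu | hu) (hv | hv)
    · exact Or.inl ⟨by rw [cu_mul, hv.1, hu.1], by rw [cu_mul, hv.2, hu.2]⟩
    · exact Or.inr ⟨by rw [cu_mul, hv.1, hu.2], by rw [cu_mul, hv.2, hu.1]⟩
    · exact Or.inr ⟨by rw [cu_mul, hv.1, hu.1], by rw [cu_mul, hv.2, hu.2]⟩
    · exact Or.inl ⟨by rw [cu_mul, hv.1, hu.2], by rw [cu_mul, hv.2, hu.1]⟩
  inv_mem' := by
    rintro u (hu | hu)
    · exact Or.inl ⟨cu_inv_eq hu.1, cu_inv_eq hu.2⟩
    · exact Or.inr ⟨cu_inv_eq hu.2, cu_inv_eq hu.1⟩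

/-- [CA15](b) -/
theorem rkNe (h : Gd E) : RkNe ι E := by
  intro S hS e f he hf hef hSe hSf hr
  by_contra hne
  have hfin := h.finite
  have : Finite (SU ι E) := Finite.of_injective H308.CA.mt mt_injective
  have hfe : f * e = 0 := by
    have := congrArg star hef
    rwa [star_mul, he.sym, hf.sym, star_zero] at this
  have hP3 := isP_one_sub (isP_add he hf hef)
  obtain ⟨g, hg⟩ := fam_st h ι (Fin 3) ![e, f, 1 - (e + f)] ![f, e, 1 - (e + f)] (by
      intro i
      fin_cases i
      · exact he
      · exact hf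
      · exact hP3) (by
      intro i j hij
      fin_cases i <;> fin_cases j <;> first | exact absurd rfl hij | skip
      · exact hef
      · show e * (1 - (e + f)) = 0
        rw [mul_sub, mul_one, mul_add, he.idem, hef, add_zero, sub_self]
      · exact hfe
      · show f * (1 - (e + f)) = 0
        rw [mul_sub, mul_one, mul_add, hf.idem, hfe, zero_add, sub_self]
      · show (1 - (e + f)) * e = 0
        rw [sub_mul, one_mul, add_mul, he.idem, hfe, add_zero, sub_self]
      · show (1 - (e + f)) * f = 0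
        rw [sub_mul, one_mul, add_mul, hf.idem, hef, zero_add, sub_self]) (by
      rw [Fin.sum_univ_three]
      show e + f + (1 - (e + f)) = 1
      abel) (by
      intro i
      fin_cases i
      · exact hf
      · exact he
      · exact hP3) (by
      intro i j hij
      fin_cases i <;> fin_cases j <;> first | exact absurd rfl hij | skip
      · exact hfe
      · show f * (1 - (e + f)) = 0
        rw [mul_sub, mul_one, mul_add, hf.idem, hfe, zero_add, sub_self]
      · exact hef
      · show e * (1 - (e + f)) = 0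
        rw [mul_sub, mul_one, mul_add, he.idem, hef, add_zero, sub_self]
      · show (1 - (e + f)) * f = 0
        rw [sub_mul, one_mul, add_mul, hf.idem, hef, zero_add, sub_self]
      · show (1 - (e + f)) * e = 0
        rw [sub_mul, one_mul, add_mul, he.idem, hfe, add_zero, sub_self]) (by
      rw [Fin.sum_univ_three]
      show f + e + (1 - (e + f)) = 1
      abel) (by
      intro i
      fin_cases i
      · exact hr
      · exact hr.symm
      · rfl)
  have hge : cu g e = f := hg 0
  have hgf : cu g f = e := hg 1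
  have hXY : stX e f ≤ stY e f := fun u hu => Or.inl hu
  have hrel : (stX e f).relIndex (stY e f) = 2 := by
    rw [Subgroup.relIndex_eq_two_iff]
    refine ⟨g, Or.inr ⟨hge, hgf⟩, ?_⟩
    rintro b (hb | hb)
    · refine Or.inr ⟨hb, fun hbg => hne ?_⟩
      have h1 : cu (b * g) e = e := hbg.1
      rw [cu_mul, hge, hb.2] at h1
      exact h1.symm
    · refine Or.inl ⟨⟨?_, ?_⟩, fun hb' => hne ?_⟩
      · show cu (b * g) e = e
        rw [cu_mul, hge, hb.2]
      · show cu (b * g) f = f
        rw [cu_mul, hgf, hb.1]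
      · exact hb'.1.symm.trans hb.1
  have hSX : S ≤ stX e f := fun u hu => ⟨cu_eq_of_comm (hSe u hu), cu_eq_of_comm (hSf u hu)⟩
  apply hS
  have h1 := Subgroup.relIndex_mul_index hXY
  rw [hrel] at h1
  exact (Dvd.intro _ h1).trans (Subgroup.index_dvd_of_le hSX)

/-- **CA18** -/
theorem index_odd (h : Gd E) (h2 : IsUnit (2 : E)) (hTwo : TwoSt E) (s : Finset ℕ)
    (e : ℕ → Matrix ι ι E) (he : ∀ a ∈ s, IsP (e a)) (ho : ∀ a ∈ s, ∀ b ∈ s, a ≠ b → e a * e b = 0)
    (hs : ∑ a ∈ s, e a = 1) (hr : ∀ a ∈ s, rk (e a) = 2 ^ a) (Y : Subgroup (SU ι E))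
    (hY : ∀ u : SU ι E, (∀ a ∈ s, H308.CA.mt u * e a = e a * H308.CA.mt u) → u ∈ Y) : ¬ 2 ∣ Y.index :=
  index_odd_of h h2 hTwo (rkNe h) s e he ho hs hr Y hY

end

end Cfsg.Agent.H55.CA
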